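import Groth.Agent.Lib.SerrePn27.Ext
import Groth.Agent.Lib.SerrePn27.HomTwist
import Groth.Agent.Lib.Exc20.Ext
import Groth.Agent.Lib.GenHom20.Main
import Groth.Agent.Lib.ModSupp25.SS
import Mathlib.LinearAlgebra.TensorProduct.Basis

/-!
# Gaeta resolutions on the projective plane
-/

set_option autoImplicit false
set_option backward.isDefEq.respectTransparency false
set_option linter.style.haveILetI false
set_option maxHeartbeats 1000000
set_option synthInstance.maxHeartbeats 200000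

universe u

open CategoryTheory CategoryTheory.Limits AlgebraicGeometry
open CategoryTheory.Abelian (Ext)
open scoped TensorProduct

set_option linter.unusedVariables false
set_option linter.unusedTactic false
set_option linter.unreachableTactic false

noncomputable section

namespace GrothLib.Gaeta20

section gen

variable {X : Scheme.{u}} [HasExt.{u} X.Modules]

theorem subsingleton_ext_congr {A A' B B' : X.Modules} (eA : A ≅ A') (eB : B ≅ B') {i : ℕ}
    (h : Subsingleton (Ext A' B' i)) : Subsingleton (Ext A B i) := by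
  refine subsingleton_of_forall_eq 0 fun x => ?_
  have h1 : x = (Ext.mk₀ eA.hom).comp ((((Ext.mk₀ eA.inv).comp x (zero_add i)).comp (Ext.mk₀ eB.hom) (add_zero i))
      |>.comp (Ext.mk₀ eB.inv) (add_zero i)) (zero_add i) := by
    rw [Ext.comp_assoc_of_third_deg_zero, Ext.comp_assoc_of_third_deg_zero, Ext.mk₀_comp_mk₀, Iso.hom_inv_id,
      Ext.comp_mk₀_id, Ext.mk₀_comp_mk₀_assoc, Iso.hom_inv_id, Ext.mk₀_id_comp]
  rw [h1, Subsingleton.elim (((Ext.mk₀ eA.inv).comp x (zero_add i)).comp (Ext.mk₀ eB.hom) (add_zero i)) 0,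
    Ext.zero_comp, Ext.comp_zero]

theorem subsingleton_HH_of_tensor {L M A B E : X.Modules} (u : CohB1.tensorMod L M ≅ Coh.structureModule X)
    (u' : CohB1.tensorMod M L ≅ Coh.structureModule X) (wA : CohB1.tensorMod (Coh.structureModule X) L ≅ A)
    (wB : CohB1.tensorMod E L ≅ B) {i : ℕ} (h : Subsingleton (Ext A B i)) : Subsingleton (Coh.HH X E i) := by
  haveI := CurveMult.isEquivalence_tF u u'
  haveI : EnoughInjectives X.Modules := SheafCoh.enoughInjectives_sheafOfModules X.ringCatSheaf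
  haveI : Subsingleton (Ext ((Euler.tF L).obj (Coh.structureModule X)) ((Euler.tF L).obj E) i) :=
    subsingleton_ext_congr wA wB h
  have hb := Functor.mapExt_bijective_of_preservesInjectiveObjects (Euler.tF L) (Coh.structureModule X) E i
  haveI : Subsingleton (Ext (Coh.structureModule X) E i) := hb.1.subsingleton
  obtain ⟨e⟩ := SheafCoh.nonempty_ext_unit_addEquiv (R := X.ringCatSheaf) E i
  exact e.toEquiv.symm.subsingleton

theorem subsingleton_ext_biprod {A B₁ B₂ : X.Modules} {i : ℕ} (h₁ : Subsingleton (Ext A B₁ i))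
    (h₂ : Subsingleton (Ext A B₂ i)) : Subsingleton (Ext A (B₁ ⊞ B₂) i) := by
  refine subsingleton_of_forall_eq 0 fun x => ?_
  rw [← Ext.comp_mk₀_id x, ← biprod.total, Ext.mk₀_add, Ext.comp_add, ← Ext.mk₀_comp_mk₀, ← Ext.mk₀_comp_mk₀,
    ← Ext.comp_assoc_of_second_deg_zero, ← Ext.comp_assoc_of_second_deg_zero,
    Subsingleton.elim (x.comp (Ext.mk₀ biprod.fst) (add_zero i)) 0,
    Subsingleton.elim (x.comp (Ext.mk₀ biprod.snd) (add_zero i)) 0, Ext.zero_comp, Ext.zero_comp, add_zero]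

theorem eq_zero_of_subsingleton_ext {A B : X.Modules} (h : Subsingleton (Ext A B 0)) (f : A ⟶ B) : f = 0 :=
  (Ext.mk₀_bijective A B).1 (Subsingleton.elim _ _)

theorem exists_lift_of_ext {S : ShortComplex X.Modules} (hS : S.ShortExact) {A : X.Modules}
    (h : Subsingleton (Ext A S.X₁ 1)) (f : A ⟶ S.X₃) : ∃ g : A ⟶ S.X₂, g ≫ S.g = f := by
  obtain ⟨y, hy⟩ := Ext.covariant_sequence_exact₃ A hS (Ext.mk₀ f) rfl (Subsingleton.elim _ _)
  obtain ⟨g, rfl⟩ := (Ext.mk₀_bijective A S.X₂).2 y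
  rw [Ext.mk₀_comp_mk₀] at hy
  exact ⟨g, (Ext.mk₀_bijective A S.X₃).1 hy⟩

theorem subsingleton_ext_X₁_one {S : ShortComplex X.Modules} (hS : S.ShortExact) {A : X.Modules}
    (h₂ : Subsingleton (Ext A S.X₂ 1)) (hsurj : ∀ f : A ⟶ S.X₃, ∃ g : A ⟶ S.X₂, g ≫ S.g = f) :
    Subsingleton (Ext A S.X₁ 1) := by
  refine subsingleton_of_forall_eq 0 fun x => ?_
  obtain ⟨y, rfl⟩ := Ext.covariant_sequence_exact₁ A hS x (Subsingleton.elim _ _) (zero_add 1)
  obtain ⟨f, rfl⟩ := (Ext.mk₀_bijective A S.X₃).2 y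
  obtain ⟨g, rfl⟩ := hsurj f
  rw [← Ext.mk₀_comp_mk₀, Ext.comp_assoc_of_second_deg_zero, hS.comp_extClass, Ext.comp_zero]

theorem subsingleton_ext_X₁_succ {S : ShortComplex X.Modules} (hS : S.ShortExact) {A : X.Modules} {i : ℕ}
    (h₂ : Subsingleton (Ext A S.X₂ (i + 1))) (h₃ : Subsingleton (Ext A S.X₃ i)) :
    Subsingleton (Ext A S.X₁ (i + 1)) := by
  refine subsingleton_of_forall_eq 0 fun x => ?_
  obtain ⟨y, rfl⟩ := Ext.covariant_sequence_exact₁ A hS x (Subsingleton.elim _ _) rfl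
  rw [Subsingleton.elim y 0, Ext.zero_comp]

end gen

section plane

variable {k : Type u} [Field k]

local notation "P₂" => CohB1.ProjSpace 2 k
local notation "𝒪" => Coh.structureModule (CohB1.ProjSpace 2 k)

/-- The twisting sheaf of the plane. -/
abbrev T (k : Type u) [Field k] (d : ℤ) : (CohB1.ProjSpace 2 k).Modules := Twist.twistProjSpace 2 k d

theorem nonempty_Ft_zero (F : (P₂).Modules) : Nonempty (CMReg.Ft F 0 ≅ F) := by
  obtain ⟨e3⟩ := CMReg.nonempty_twist_zero (n := 2) (k := k)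
  exact ⟨Ample.LineData.tensorModMapIso (Iso.refl F) e3 ≪≫
    GrTilde.tensorModComm (X := CohB1.ProjSpace 2 k) _ _ ≪≫ OX.tensorUnitLeftIso _⟩

/-- The data identifying maps out of `O(s)` with cohomology of the opposite twist. -/
theorem exists_tensor_data (F : (P₂).Modules) (s j : ℤ) (h : j + s = 0) :
    ∃ (_ : CohB1.tensorMod (T k s) (T k j) ≅ 𝒪) (_ : CohB1.tensorMod (T k j) (T k s) ≅ 𝒪)
      (_ : CohB1.tensorMod 𝒪 (T k s) ≅ T k s), Nonempty (CohB1.tensorMod (CMReg.Ft F j) (T k s) ≅ F) := by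
  obtain ⟨e0⟩ := CMReg.nonempty_twist_zero (n := 2) (k := k)
  obtain ⟨u⟩ := CMReg.nonempty_twist_add (n := 2) (k := k) (show s + j = 0 by omega)
  obtain ⟨u'⟩ := CMReg.nonempty_twist_add (n := 2) (k := k) h
  obtain ⟨a⟩ := CMReg.nonempty_Ft_Ft F j s 0 h
  obtain ⟨b⟩ := nonempty_Ft_zero (k := k) F
  exact ⟨u ≪≫ e0, u' ≪≫ e0, OX.tensorUnitLeftIso (X := CohB1.ProjSpace 2 k) (T k s), ⟨a ≪≫ b⟩⟩

variable [HasExt.{u} (CohB1.ProjSpace 2 k).Modules]

theorem subsingleton_ext_twist_iff (F : (P₂).Modules) (s j : ℤ) (h : j + s = 0) (i : ℕ) :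
    Subsingleton (Ext (T k s) F i) ↔ Subsingleton (Coh.HH P₂ (CMReg.Ft F j) i) := by
  obtain ⟨u, u', w, ⟨w'⟩⟩ := exists_tensor_data F s j h
  exact ⟨subsingleton_HH_of_tensor u u' w w', SerrePn27.subsingleton_ext_of_tensor u u' w w'⟩

theorem subsingleton_ext_T (s d : ℤ) (i : ℕ) (h₀ : ¬ (i = 0 ∧ 0 ≤ d - s)) (h₂ : ¬ (i = 2 ∧ d - s ≤ -3)) :
    Subsingleton (Ext (T k s) (T k d) i) := by
  rw [subsingleton_ext_twist_iff _ s (-s) (neg_add_cancel s)]
  obtain ⟨w⟩ := CMReg.nonempty_twist_add (n := 2) (k := k) (show d + -s = d - s by ring)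
  exact CMReg.subsingleton_of_iso w.symm (ProjCohom.subsingleton_HH (n := 2) (R := k) h₀ (by
    rintro ⟨h, h'⟩; exact h₂ ⟨h, by omega⟩))

theorem subsingleton_ext_T_sigma (a : ℕ) (s d : ℤ) (i : ℕ) (h₀ : ¬ (i = 0 ∧ 0 ≤ d - s))
    (h₂ : ¬ (i = 2 ∧ d - s ≤ -3)) : Subsingleton (Ext (T k s) (∐ fun _ : Fin a => T k d) i) :=
  Exc20.subsingleton_to_sigma (T k s) (Iso.refl _) fun _ => subsingleton_ext_T s d i h₀ h₂

theorem subsingleton_ext_T_free (c : ℕ) (s : ℤ) (i : ℕ) (h₀ : ¬ (i = 0 ∧ s ≤ 0)) (h₂ : ¬ (i = 2 ∧ 3 ≤ s)) :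
    Subsingleton (Ext (T k s) (∐ fun _ : Fin c => 𝒪) i) :=
  Exc20.subsingleton_to_sigma (T k s) (Iso.refl _) fun _ =>
    subsingleton_ext_congr (Iso.refl _) GenHom20.zeroIso.symm
      (subsingleton_ext_T s 0 i (fun h => h₀ ⟨h.1, by omega⟩) fun h => h₂ ⟨h.1, by omega⟩)

omit [HasExt.{u} (CohB1.ProjSpace 2 k).Modules] in
/-- Endomorphisms of a twist are scalars. -/
theorem exists_eq_smul_id (d : ℤ) {M : (P₂).Modules} (e : M ≅ T k d) (f : M ⟶ M) : ∃ c : k, c • 𝟙 M = f := by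
  obtain ⟨E⟩ := SerrePn27.nonempty_hom_twist_equiv (n := 2) (k := k) (zero_add d)
  obtain ⟨e₀⟩ := ProjCohom.nonempty_HH_zero (n := 2) (R := k) 0
  have h1 : Module.finrank k (T k d ⟶ T k d) = 1 := by
    refine E.finrank_eq.trans ((e₀.finrank_eq).trans ?_)
    rw [ProjCohom.finrank_forms]
    rfl
  have hne : 𝟙 (T k d) ≠ 0 := fun h0 => by
    haveI : Subsingleton (T k d ⟶ T k d) := ⟨fun a b => by
      rw [← Category.comp_id a, ← Category.comp_id b, h0, comp_zero, comp_zero]⟩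
    rw [Module.finrank_zero_of_subsingleton] at h1
    exact zero_ne_one h1
  obtain ⟨c, hc⟩ := (finrank_eq_one_iff_of_nonzero' _ hne).1 h1 (e.inv ≫ f ≫ e.hom)
  refine ⟨c, ?_⟩
  rw [← cancel_mono e.hom, ← cancel_epi e.inv, ← hc]
  simp

omit [HasExt.{u} (CohB1.ProjSpace 2 k).Modules] in
theorem eq_sum_proj {r : ℕ} {A : (P₂).Modules} (Y : Fin r → (P₂).Modules) (f : A ⟶ ∐ Y) :
    f = ∑ l, (f ≫ GenHom20.proj Y l) ≫ Sigma.ι Y l := by
  conv_lhs => rw [← Category.comp_id f, ← GenHom20.sum_proj_ι Y, Preadditive.comp_sum]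
  exact Finset.sum_congr rfl fun l _ => (Category.assoc _ _ _).symm

/-- Multiplication of sections by linear forms. -/
abbrev mult (F : (CohB1.ProjSpace 2 k).Modules) : (T k (-1) ⟶ 𝒪) ⊗[k] (𝒪 ⟶ F) →ₗ[k] (T k (-1) ⟶ F) :=
  TensorProduct.lift (Linear.comp (T k (-1)) 𝒪 F : (T k (-1) ⟶ 𝒪) →ₗ[k] (𝒪 ⟶ F) →ₗ[k] (T k (-1) ⟶ F))

/-- The vanishing and injectivity conditions coming from a resolution. -/
theorem conditions_of_resolution {a b c : ℕ} {S : ShortComplex (P₂).Modules} (hS : S.ShortExact)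
    (e₁ : S.X₁ ≅ ∐ fun _ : Fin a => T k (-2))
    (e₂ : S.X₂ ≅ (∐ fun _ : Fin b => T k (-1)) ⊞ (∐ fun _ : Fin c => 𝒪)) :
    Subsingleton (Coh.HH P₂ (CMReg.Ft S.X₃ (-1)) 0) ∧ Subsingleton (Coh.HH P₂ (CMReg.Ft S.X₃ (-1)) 2) ∧
      Subsingleton (Coh.HH P₂ S.X₃ 1) ∧ Subsingleton (Coh.HH P₂ S.X₃ 2) ∧
      Subsingleton (Coh.HH P₂ (CMReg.Ft S.X₃ 1) 1) ∧ Subsingleton (Coh.HH P₂ (CMReg.Ft S.X₃ 1) 2) ∧
      Function.Injective (mult S.X₃) := by
  have key : ∀ (s j : ℤ) (i : ℕ), j + s = 0 → ¬ (i = 0 ∧ s ≤ 0) → (i = 0 → -1 - s < 0) →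
      (i + 1 = 2 → -3 < -2 - s) → (i = 2 → s < 2) → Subsingleton (Coh.HH P₂ (CMReg.Ft S.X₃ j) i) := by
    intro s j i h h0 h0' h1 h2
    rw [← subsingleton_ext_twist_iff _ s j h]
    haveI : Subsingleton (Ext (T k s) S.X₂ i) := subsingleton_ext_congr (Iso.refl _) e₂
      (subsingleton_ext_biprod (subsingleton_ext_T_sigma b s (-1) i (fun hh => by have := h0' hh.1; omega)
          fun hh => by have := h2 hh.1; omega)
        (subsingleton_ext_T_free c s i h0 fun hh => by have := h2 hh.1; omega))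
    haveI : Subsingleton (Ext (T k s) S.X₁ (i + 1)) := subsingleton_ext_congr (Iso.refl _) e₁
      (subsingleton_ext_T_sigma a s (-2) (i + 1) (fun hh => by omega) fun hh => by have := h1 hh.1; omega)
    exact Exc20.subsingleton_X₃_right hS (T k s)
  obtain ⟨z0⟩ := nonempty_Ft_zero (k := k) S.X₃
  refine ⟨key 1 (-1) 0 rfl (by omega) (by omega) (by omega) (by omega),
    key 1 (-1) 2 rfl (by omega) (by omega) (by omega) (by omega),
    CMReg.subsingleton_of_iso z0 (key 0 0 1 rfl (by omega) (by omega) (by omega) (by omega)),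
    CMReg.subsingleton_of_iso z0 (key 0 0 2 rfl (by omega) (by omega) (by omega) (by omega)),
    key (-1) 1 1 rfl (by omega) (by omega) (by omega) (by omega),
    key (-1) 1 2 rfl (by omega) (by omega) (by omega) (by omega), ?_⟩
  let inF : (∐ fun _ : Fin c => 𝒪) ⟶ S.X₂ := biprod.inr ≫ e₂.inv
  let s : Fin c → (𝒪 ⟶ S.X₃) := fun l => Sigma.ι (fun _ : Fin c => 𝒪) l ≫ inF ≫ S.g
  have hspan : Submodule.span k (Set.range s) = ⊤ := Submodule.eq_top_iff'.2 fun f => by
    obtain ⟨g, rfl⟩ := exists_lift_of_ext hS (subsingleton_ext_congr GenHom20.zeroIso.symm e₁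
      (subsingleton_ext_T_sigma a 0 (-2) 1 (by omega) (by omega))) f
    have h1 : g ≫ e₂.hom ≫ biprod.fst = 0 := eq_zero_of_subsingleton_ext
      (subsingleton_ext_congr GenHom20.zeroIso.symm (Iso.refl _)
        (subsingleton_ext_T_sigma b 0 (-1) 0 (by omega) (by omega))) _
    have hg : g = (g ≫ e₂.hom ≫ biprod.snd) ≫ inF := by
      have := congrArg (fun m => g ≫ e₂.hom ≫ m ≫ e₂.inv)
        (biprod.total (X := ∐ fun _ : Fin b => T k (-1)) (Y := ∐ fun _ : Fin c => 𝒪)).symm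
      simp only [Preadditive.add_comp, Preadditive.comp_add, Category.id_comp, Iso.hom_inv_id,
        Category.comp_id, Category.assoc] at this
      rw [this, reassoc_of% h1, zero_comp, zero_add]
      simp [inF]
    rw [hg, eq_sum_proj _ (g ≫ e₂.hom ≫ biprod.snd), Preadditive.sum_comp, Preadditive.sum_comp]
    refine Submodule.sum_mem _ fun l _ => ?_
    obtain ⟨r, hr⟩ := exists_eq_smul_id 0 GenHom20.zeroIso.symm ((g ≫ e₂.hom ≫ biprod.snd) ≫ GenHom20.proj _ l)
    rw [← hr, Category.assoc, Category.assoc, Linear.smul_comp, Category.id_comp]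
    exact Submodule.smul_mem _ _ (Submodule.subset_span ⟨l, rfl⟩)
  rw [injective_iff_map_eq_zero]
  intro z hz
  obtain ⟨v, rfl⟩ : ∃ v : Fin c → (T k (-1) ⟶ 𝒪), z = ∑ l, v l ⊗ₜ[k] s l := by
    clear hz
    induction z using TensorProduct.induction_on with
    | zero => exact ⟨0, by simp⟩
    | tmul p q =>
      obtain ⟨r, rfl⟩ := (Submodule.mem_span_range_iff_exists_fun k).1 (hspan.ge (show q ∈ ⊤ from trivial))
      refine ⟨fun l => r l • p, ?_⟩
      rw [TensorProduct.tmul_sum]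
      exact Finset.sum_congr rfl fun l _ => (TensorProduct.smul_tmul _ _ _).symm
    | add z w hz' hw' =>
      obtain ⟨v, rfl⟩ := hz'
      obtain ⟨v', rfl⟩ := hw'
      exact ⟨v + v', by simp [TensorProduct.add_tmul, Finset.sum_add_distrib]⟩
  rw [map_sum] at hz
  simp only [mult, TensorProduct.lift.tmul] at hz
  let w : T k (-1) ⟶ ∐ fun _ : Fin c => 𝒪 := ∑ l, v l ≫ Sigma.ι (fun _ : Fin c => 𝒪) l
  have hw : (w ≫ inF) ≫ S.g = 0 := by
    rw [← hz, Category.assoc, Preadditive.sum_comp]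
    exact Finset.sum_congr rfl fun l _ => by simp [s]
  haveI := hS.mono_f
  obtain ⟨y, hy⟩ : ∃ y : T k (-1) ⟶ S.X₁, y ≫ S.f = w ≫ inF := ⟨hS.exact.lift _ hw, hS.exact.lift_f _ hw⟩
  rw [eq_zero_of_subsingleton_ext (subsingleton_ext_congr (Iso.refl _) e₁
    (subsingleton_ext_T_sigma a (-1) (-2) 0 (by omega) (by omega))) y, zero_comp] at hy
  have hw0 : w = 0 := by
    rw [← cancel_mono inF, zero_comp, ← hy]
  refine Finset.sum_eq_zero fun l _ => ?_
  have hv : v l = 0 := by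
    have h2 := congrArg (fun m => m ≫ GenHom20.proj (fun _ : Fin c => 𝒪) l) hw0
    simp only [w, Preadditive.sum_comp, Category.assoc, zero_comp] at h2
    rw [Finset.sum_eq_single l (fun j _ hj => by rw [GenHom20.ι_proj_of_ne _ hj, comp_zero]) (by simp),
      GenHom20.ι_proj_self, Category.comp_id] at h2
    exact h2
  rw [hv, TensorProduct.zero_tmul]

/-- A resolution from the vanishing and injectivity conditions. -/
theorem exists_resolution (F : (CohB1.ProjSpace 2 k).Modules) (hF : Coh.IsCoh F) (h₁ : Subsingleton (Coh.HH P₂ F 1))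
    (h₂ : Subsingleton (Coh.HH P₂ (CMReg.Ft F (-1)) 2)) (hμ : Function.Injective (mult F)) :
    ∃ (a b c : ℕ) (S : ShortComplex (P₂).Modules), S.ShortExact ∧
      Nonempty (S.X₁ ≅ ∐ fun _ : Fin a => T k (-2)) ∧
      Nonempty (S.X₂ ≅ (∐ fun _ : Fin b => T k (-1)) ⊞ (∐ fun _ : Fin c => 𝒪)) ∧
      Nonempty (S.X₃ ≅ F) := by
  classical
  obtain ⟨z0⟩ := nonempty_Ft_zero (k := k) F
  obtain ⟨u, u', w, ⟨w'⟩⟩ := exists_tensor_data F (-1) 1 rfl
  obtain ⟨E₁⟩ := SerrePn27.nonempty_hom_equiv_of_tensor (k := k) u u' w w'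
  haveI := CMReg.finiteDimensional_Ft hF 1 0
  haveI : Module.Finite k (T k (-1) ⟶ F) := Module.Finite.equiv E₁.symm
  haveI : Module.Finite k (𝒪 ⟶ F) := by
    haveI := CMReg.finiteDimensional_Ft hF 0 0
    obtain ⟨u, u', w, ⟨w'⟩⟩ := exists_tensor_data F 0 0 rfl
    obtain ⟨E₀⟩ := SerrePn27.nonempty_hom_equiv_of_tensor (k := k) u u' w w'
    exact Module.Finite.equiv (E₀.symm ≪≫ₗ Linear.homCongr k GenHom20.zeroIso (Iso.refl F))
  let B₀ := Module.finBasis k (𝒪 ⟶ F)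
  obtain ⟨W, hW⟩ := Submodule.exists_isCompl (LinearMap.range (mult F))
  let B₁ := Module.finBasis k W
  set c := Module.finrank k (𝒪 ⟶ F)
  set b := Module.finrank k W
  let q₁ : (∐ fun _ : Fin b => T k (-1)) ⟶ F := Sigma.desc fun l => (B₁ l : T k (-1) ⟶ F)
  let q₀ : (∐ fun _ : Fin c => 𝒪) ⟶ F := Sigma.desc fun l => B₀ l
  let g := biprod.desc q₁ q₀
  -- every map from the two line bundles lifts
  have lift0 : ∀ f : 𝒪 ⟶ F, ∃ h, h ≫ g = f := fun f => by
    refine ⟨(∑ l, B₀.repr f l • Sigma.ι (fun _ : Fin c => 𝒪) l) ≫ biprod.inr, ?_⟩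
    rw [Category.assoc, biprod.inr_desc, Preadditive.sum_comp]
    refine Eq.trans ?_ (B₀.sum_repr f)
    exact Finset.sum_congr rfl fun l _ => by rw [Linear.smul_comp, Sigma.ι_desc]
  have lift1 : ∀ f : T k (-1) ⟶ F, ∃ h, h ≫ g = f := fun f => by
    obtain ⟨p, hp, q, hq, rfl⟩ := Submodule.mem_sup.1 (hW.sup_eq_top.ge (show f ∈ ⊤ from trivial))
    obtain ⟨z, rfl⟩ := hp
    obtain ⟨h', hh'⟩ : ∃ h, h ≫ g = mult F z := by
      induction z using TensorProduct.induction_on with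
      | zero => exact ⟨0, by simp⟩
      | tmul v s =>
        obtain ⟨h, hh⟩ := lift0 s
        exact ⟨v ≫ h, by rw [Category.assoc, hh]; rfl⟩
      | add z w hz hw =>
        obtain ⟨h, hh⟩ := hz
        obtain ⟨h', hh'⟩ := hw
        exact ⟨h + h', by rw [Preadditive.add_comp, hh, hh', map_add]⟩
    refine ⟨h' + (∑ l, B₁.repr ⟨q, hq⟩ l • Sigma.ι (fun _ : Fin b => T k (-1)) l) ≫ biprod.inl, ?_⟩
    rw [Preadditive.add_comp, hh', Category.assoc, biprod.inl_desc, Preadditive.sum_comp]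
    congr 1
    have h2 := congrArg Subtype.val (B₁.sum_repr ⟨q, hq⟩)
    rw [Submodule.coe_sum] at h2
    refine Eq.trans ?_ h2
    exact Finset.sum_congr rfl fun l _ => by rw [Linear.smul_comp, Sigma.ι_desc]; rfl
  have inj1 : ∀ x : T k (-1) ⟶ (∐ fun _ : Fin b => T k (-1)) ⊞ (∐ fun _ : Fin c => 𝒪), x ≫ g = 0 → x = 0 := by
    intro x hx
    have hr : ∀ l, ∃ r : k, r • 𝟙 (T k (-1)) = (x ≫ biprod.fst) ≫ GenHom20.proj (fun _ : Fin b => T k (-1)) l :=
      fun l => exists_eq_smul_id (-1) (Iso.refl _) _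
    choose r hr using hr
    let v : Fin c → (T k (-1) ⟶ 𝒪) := fun l => (x ≫ biprod.snd) ≫ GenHom20.proj (fun _ : Fin c => 𝒪) l
    have ex : x = (∑ l, r l • Sigma.ι (fun _ : Fin b => T k (-1)) l) ≫ biprod.inl +
        (∑ l, v l ≫ Sigma.ι (fun _ : Fin c => 𝒪) l) ≫ biprod.inr := by
      rw [← eq_sum_proj, Finset.sum_congr rfl (g := fun l => ((x ≫ biprod.fst) ≫ GenHom20.proj _ l) ≫
        Sigma.ι (fun _ : Fin b => T k (-1)) l) (fun l _ => by rw [← hr l, Linear.smul_comp, Category.id_comp]),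
        ← eq_sum_proj, Category.assoc, Category.assoc, ← Preadditive.comp_add, biprod.total, Category.comp_id]
    have hsum : ((∑ l, r l • B₁ l : W) : T k (-1) ⟶ F) + mult F (∑ l, v l ⊗ₜ[k] B₀ l) = 0 := by
      rw [← hx, ex, Preadditive.add_comp, Category.assoc, Category.assoc, biprod.inl_desc, biprod.inr_desc,
        Preadditive.sum_comp, Preadditive.sum_comp, Submodule.coe_sum, map_sum]
      congr 1
      · exact Finset.sum_congr rfl fun l _ => by rw [Linear.smul_comp, Sigma.ι_desc]; rfl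
      · exact Finset.sum_congr rfl fun l _ => by rw [Category.assoc, Sigma.ι_desc]; rfl
    have hmem : mult F (∑ l, v l ⊗ₜ[k] B₀ l) ∈ LinearMap.range (mult F) ⊓ W := by
      refine ⟨LinearMap.mem_range_self _ _, ?_⟩
      rw [eq_neg_of_add_eq_zero_right hsum]
      exact W.neg_mem (Subtype.property _)
    rw [hW.inf_eq_bot, Submodule.mem_bot] at hmem
    rw [hmem, add_zero, ZeroMemClass.coe_eq_zero] at hsum
    have hr0 : r = 0 := funext fun l => (Fintype.linearIndependent_iff.1 B₁.linearIndependent) r hsum l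
    have hz : (∑ l, v l ⊗ₜ[k] B₀ l) = 0 := hμ (hmem.trans (map_zero _).symm)
    have hv0 : v = 0 := funext fun l => by
      have h3 := congrArg (fun t => TensorProduct.rid k (T k (-1) ⟶ 𝒪) ((B₀.coord l).lTensor (T k (-1) ⟶ 𝒪) t)) hz
      simp only [map_sum, LinearMap.lTensor_tmul, TensorProduct.rid_tmul, map_zero, Module.Basis.coord_apply,
        Module.Basis.repr_self, Finsupp.single_apply, ite_smul, one_smul, zero_smul, Finset.sum_ite_eq',
        Finset.mem_univ, if_true] at h3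
      exact h3
    rw [ex, hr0, hv0]
    simp
  haveI : Epi g := by
    obtain ⟨n', φ, hφ, -⟩ := CMReg.exists_linear_step hF 1 (fun i hi hi2 => by
      interval_cases i
      · rw [show (1 : ℤ) - ((1 : ℕ) : ℤ) = 0 by norm_num]; exact CMReg.subsingleton_of_iso z0.symm h₁
      · rw [show (1 : ℤ) - ((2 : ℕ) : ℤ) = -1 by norm_num]; exact h₂)
    choose h hh using fun l => lift1 (Sigma.ι (fun _ : Fin n' => T k (-1)) l ≫ φ)
    have hfac : Sigma.desc h ≫ g = φ := Sigma.hom_ext _ _ fun l => by rw [Sigma.ι_desc_assoc, hh l]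
    exact epi_of_epi_fac hfac
  let S := ShortComplex.mk (kernel.ι g) g (kernel.condition g)
  have hS : S.ShortExact := { exact := ShortComplex.exact_of_f_is_kernel _ (kernelIsKernel g) }
  have hB : Coh.IsCoh ((∐ fun _ : Fin b => T k (-1)) ⊞ (∐ fun _ : Fin c => 𝒪)) := by
    haveI : IsLocallyNoetherian P₂ :=
      haveI := Chow.isProper_toSpec 2 k
      LocallyOfFiniteType.isLocallyNoetherian (CohB1.ProjSpace.toSpec 2 k)
    exact QCoh.isCoh_biprod' (CMReg.isCoh_sumTwist b (-1)) (Euler.isCoh_of_isFinLocFree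
      (OX.isFinLocFree_sigma _ fun _ => Euler.isFinLocFree_of_isInvertible Euler.isInvertible_structure))
  have hK : Coh.IsCoh (kernel g) := QCoh.isCoh_kernel g hB hF
  have v10 : Subsingleton (Coh.HH P₂ (CMReg.Ft (kernel g) 1) 0) := by
    rw [← subsingleton_ext_twist_iff _ (-1) 1 rfl]
    refine subsingleton_of_forall_eq 0 fun x => ?_
    obtain ⟨y, rfl⟩ := (Ext.mk₀_bijective _ _).2 x
    rw [show y = 0 from (cancel_mono (kernel.ι g)).1 ((inj1 _ (by simp)).trans zero_comp.symm), Ext.mk₀_zero]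
  have v11 : Subsingleton (Coh.HH P₂ (CMReg.Ft (kernel g) 1) 1) := by
    rw [← subsingleton_ext_twist_iff _ (-1) 1 rfl]
    exact subsingleton_ext_X₁_one hS (subsingleton_ext_biprod
      (subsingleton_ext_T_sigma b (-1) (-1) 1 (by omega) (by omega))
      (subsingleton_ext_T_free c (-1) 1 (by omega) (by omega))) lift1
  have v01 : Subsingleton (Coh.HH P₂ (CMReg.Ft (kernel g) 0) 1) := by
    rw [← subsingleton_ext_twist_iff _ 0 0 rfl]
    refine subsingleton_ext_X₁_one hS (subsingleton_ext_biprod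
      (subsingleton_ext_T_sigma b 0 (-1) 1 (by omega) (by omega))
      (subsingleton_ext_T_free c 0 1 (by omega) (by omega))) fun f => ?_
    obtain ⟨h, hh⟩ := lift0 (GenHom20.zeroIso.inv ≫ f)
    exact ⟨GenHom20.zeroIso.hom ≫ h, by
      show (GenHom20.zeroIso.hom ≫ h) ≫ g = f
      rw [Category.assoc, hh, Iso.hom_inv_id_assoc]⟩
  have v02 : Subsingleton (Coh.HH P₂ (CMReg.Ft (kernel g) 0) 2) := by
    rw [← subsingleton_ext_twist_iff _ 0 0 rfl]
    exact subsingleton_ext_X₁_succ hS (i := 1) (subsingleton_ext_biprod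
      (subsingleton_ext_T_sigma b 0 (-1) 2 (by omega) (by omega))
      (subsingleton_ext_T_free c 0 2 (by omega) (by omega)))
      ((subsingleton_ext_twist_iff F 0 0 rfl 1).2 (CMReg.subsingleton_of_iso z0.symm h₁))
  obtain ⟨a, ⟨eK⟩⟩ := CMReg.isIso_linear_step hK 2 (fun i hi hi2 => by
      interval_cases i
      · rw [show (2 : ℤ) - ((1 : ℕ) : ℤ) = 1 by norm_num]; exact v11
      · rw [show (2 : ℤ) - ((2 : ℕ) : ℤ) = 0 by norm_num]; exact v02)
    (fun i hi => by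
      interval_cases i
      · rw [show (2 : ℤ) - 1 - ((0 : ℕ) : ℤ) = 1 by norm_num]; exact v10
      · rw [show (2 : ℤ) - 1 - ((1 : ℕ) : ℤ) = 0 by norm_num]; exact v01)
  exact ⟨a, b, c, S, hS, ⟨eK.symm⟩, ⟨Iso.refl _⟩, ⟨Iso.refl _⟩⟩

end plane

end GrothLib.Gaeta20
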